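import Groth.Agent.TopFin.Site
import Groth.Agent.TopFin.Alg
import Groth.Agent.SiteCoh.ColimCls
import Groth.Agent.SiteCoh.ColimHelp
import Groth.Agent.SiteCoh.SheafColim

/-!
# Filtered colimits and cohomology on sites with coherent pieces
-/

set_option autoImplicit false
open CategoryTheory CategoryTheory.Limits Opposite
open ToposFin
universe u

namespace Groth.Agent.AlgSpEN.HColim

open Groth.Agent.TopFin Groth.Agent.TopFin.QC Groth.Agent.TopFin.Site

variable {C : Type u} [SmallCategory C] (J : GrothendieckTopology C) [HasPullbacks C] [HasBinaryProducts C]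

/-- Small pieces `Q` covering everything, with quasi-compact overlaps `R`. -/
structure QSite (Q R : C → Prop) : Prop where
  sub : ∀ X, Q X → R X
  cover : ∀ X : C, Sieve.generate (fun V (_ : V ⟶ X) => Q V) ∈ J X
  qc : ∀ X, R X → IsQCSite J X
  pb : ∀ ⦃U V W : C⦄ (f : V ⟶ U) (g : W ⟶ U), R U → Q V → Q W → R (pullback f g)
  prod : ∀ ⦃V W : C⦄, Q V → Q W → R (V ⨯ W)
  terminal : ∃ (n : ℕ) (A : Fin n → C), (∀ k, Q (A k)) ∧
    ∀ X : C, Sieve.generate (fun V (_ : V ⟶ X) => ∃ k, Nonempty (V ⟶ A k)) ∈ J X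

variable {J} {Q R : C → Prop} (h : QSite J Q R)
include h

theorem exists_finite_refine {X : C} (hX : IsQCSite J X) {S : Sieve X} (hS : S ∈ J X)
    (hc : ∀ Y, Sieve.generate (fun V (_ : V ⟶ Y) => Q V) ∈ J Y) :
    ∃ (n : ℕ) (V : Fin n → C) (l : ∀ k, V k ⟶ X),
      JE (fun k => epsMap J (l k)) ∧ (∀ k, Q (V k)) ∧ ∀ k, S (l k) := by
  let T := Sieve.bind S.arrows (fun Y (f : Y ⟶ X) (_ : S f) => Sieve.generate (fun V (_ : V ⟶ Y) => Q V))
  have hT : T ∈ J X := J.bind_covering hS fun Y f _ => hc Y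
  obtain ⟨n, idx, hje⟩ := exists_fin ((isQC_eps_iff J X).1 hX) (je_of_mem J hT)
  have hfac : ∀ k, ∃ (V : C) (a : (idx k).1 ⟶ V) (b : V ⟶ X), Q V ∧ S b ∧ a ≫ b = (idx k).2.1 := fun k => by
    obtain ⟨Y, g, f, hf, ⟨V, a, c, hV, e⟩, e'⟩ := (idx k).2.2
    exact ⟨V, a, c ≫ f, hV, S.downward_closed hf c, by rw [reassoc_of% e, e']⟩
  choose V a b hV hb e using hfac
  exact ⟨n, V, b, hje.of_factor _ fun k => ⟨k, epsMap J (a k), by rw [← epsMap_comp, e]⟩, hV, hb⟩

theorem gens : Gens (J := J) fun K => ∃ V, Q V ∧ eps J V = K := fun X => by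
  obtain ⟨ι, F, π, hF, hπ⟩ := gens_eps (J := J) X
  choose V hV using hF
  refine ⟨Σ i : ι, Σ W : C, {f : W ⟶ V i // Q W}, fun p => eps J p.2.1,
    fun p => epsMap J p.2.2.1 ≫ eqToHom (hV p.1) ≫ π p.1, fun p => ⟨_, p.2.2.2, rfl⟩,
    fun Z a b hab => hπ a b fun i => ?_⟩
  refine (cancel_epi (eqToHom (hV i))).1 (je_of_mem J (h.cover (V i)) _ _ fun ⟨W, f, hf⟩ => ?_)
  obtain ⟨W', c, g, hW', rfl⟩ := hf
  have := hab ⟨i, W', g, hW'⟩
  simp only [Category.assoc] at this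
  simp only [epsMap_comp, Category.assoc, this]

theorem qc_eps {X : C} (hX : R X) : IsQC (eps J X) := (isQC_eps_iff J X).1 (h.qc X hX)

theorem coherent {U : C} (hU : R U) : IsCoherent (eps J U) := by
  refine ⟨qc_eps h hU, isQS_of_gens (gens h) _ ?_⟩
  rintro _ s ⟨V, hV, rfl⟩
  refine isQCHom_of_gens (gens h) s ?_
  rintro _ t ⟨W, hW, rfl⟩
  obtain ⟨S₁, hS₁, hS₁'⟩ := exists_repr J s
  obtain ⟨S₂, hS₂, hS₂'⟩ := exists_repr J t
  obtain ⟨n, A, l, hl, hA, hlS⟩ := exists_finite_refine h (h.qc V (h.sub V hV)) hS₁ h.cover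
  obtain ⟨m, B, l', hl', hB, hlS'⟩ := exists_finite_refine h (h.qc W (h.sub W hW)) hS₂ h.cover
  refine isQC_pullback_of_cover s t _ hl fun i => ?_
  refine isQC_pullback_of_cover_right _ t _ hl' fun j => ?_
  obtain ⟨g, hg⟩ := hS₁' (l i) (hlS i)
  obtain ⟨g', hg'⟩ := hS₂' (l' j) (hlS' j)
  refine isQC_of_iso (pullback.congrHom hg hg').symm ?_
  exact isQC_of_iso (isPullback_eps J (IsPullback.of_hasPullback g g')).isoPullback
    (qc_eps h (h.pb g g' hU (hA i) (hB j)))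

/-- The associated sheaf of a product is the product. -/
noncomputable def prodIso (J : GrothendieckTopology C) (V W : C) : eps J (V ⨯ W) ≅ eps J V ⨯ eps J W :=
  PreservesLimitPair.iso (yoneda ⋙ presheafToSheaf J (Type u)) V W

theorem qs_prod {V W : C} (hV : Q V) (hW : Q W) : IsQS (eps J V ⨯ eps J W) :=
  isQS_of_mono (prodIso J V W).inv (coherent h (h.prod hV hW)).2

theorem cls : SiteCoh.SheafColim.Cls ({X | IsCoherent X} : Set (ToposFin.Sh J)) where
  qc _ hX := hX.1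
  iso _ _ e hX := isCoherent_of_iso e hX
  pb K L M f g hK hL hM := by
    have hprod : ∀ A B : ToposFin.Sh J, (∃ V, Q V ∧ eps J V = A) → (∃ W, Q W ∧ eps J W = B) → IsQS (A ⨯ B) := by
      rintro _ _ ⟨V, hV, rfl⟩ ⟨W, hW, rfl⟩
      exact qs_prod h hV hW
    have hPqc : ∀ A : ToposFin.Sh J, (∃ V, Q V ∧ eps J V = A) → IsQC A := by
      rintro _ ⟨V, hV, rfl⟩
      exact qc_eps h (h.sub V hV)
    have hgc := isQCHom_of_isQC_of_isQS g hL.1 hM.2
    have hgs := Alg.isQSHom_of_prod (gens h) hPqc hprod g hL.2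
    exact ⟨isQC_of_isQCHom (IsQCHom.baseChange (IsPullback.of_hasPullback f g).flip hgc) hK.1,
      isQS_of_isQSHom _ (IsQSHom.baseChange (IsPullback.of_hasPullback f g).flip hgs) hK.2⟩
  refine' F K g hK hg := by
    refine SiteCoh.ColimCls.refine_coherent (gens h) ?_ g hK.1 hg
    rintro _ ⟨V, hV, rfl⟩
    exact coherent h (h.sub V hV)

theorem terminal_coherent : IsCoherent (⊤_ (ToposFin.Sh J)) := by
  obtain ⟨n, A, hA, hcov⟩ := h.terminal
  refine ⟨isQC_of_cover (fun k => terminal.from (eps J (A k))) ?_ fun k => qc_eps h (h.sub _ (hA k)),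
    isQS_of_gens (gens h) _ ?_⟩
  · intro Z a b hab
    refine gens_eps (J := J) _ |>.elim fun ι ⟨F, π, hF, hπ⟩ => hπ a b fun i => ?_
    obtain ⟨X, hX⟩ := hF i
    refine (cancel_epi (eqToHom hX)).1 (je_of_mem J (hcov X) _ _ fun ⟨W, f, hf⟩ => ?_)
    obtain ⟨W', c, g, ⟨k, ⟨m⟩⟩, rfl⟩ := hf
    have e : epsMap J (c ≫ g) ≫ eqToHom hX ≫ π i = epsMap J (c ≫ m) ≫ terminal.from (eps J (A k)) :=
      terminal.hom_ext _ _
    rw [reassoc_of% e, reassoc_of% e, hab k]
  · rintro _ s ⟨V, hV, rfl⟩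
    refine isQCHom_of_gens (gens h) s ?_
    rintro _ t ⟨W, hW, rfl⟩
    have hs : IsQC (eps J V ⨯ eps J W) := isQC_of_iso (prodIso J V W) (qc_eps h (h.prod hV hW))
    refine isQC_of_iso (IsPullback.of_is_product' (prodIsProd _ _) terminalIsTerminal |>.isoPullback
      |>.trans (pullback.congrHom (terminal.hom_ext _ _) (terminal.hom_ext _ _))) hs

/-- Cohomology commutes with filtered colimits. -/
theorem preservesColimitsOfShape_functorH (Λ : Type u) [SmallCategory Λ] [IsFiltered Λ] (p : ℕ) :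
    PreservesColimitsOfShape Λ (Sheaf.functorH J p : Sheaf J AddCommGrpCat.{u} ⥤ AddCommGrpCat.{u}) := by
  obtain ⟨e⟩ := SiteCoh.ColimHelp.nonempty_const_iso (J := J) (terminalIsTerminal (C := ToposFin.Sh J))
  exact SiteCoh.SheafColim.preservesColimitsOfShape (I := Λ) (cls h) (terminal_coherent h) p e

end Groth.Agent.AlgSpEN.HColim
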