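import Mathlib.CategoryTheory.Sites.SheafCohomology.Basic
import Mathlib.CategoryTheory.Sites.Equivalence
import Mathlib.CategoryTheory.Sites.Abelian
import Mathlib.Algebra.Category.Grp.Abelian
import Mathlib.Algebra.Category.Grp.FilteredColimits
import Mathlib.Algebra.Category.Grp.Colimits
import Groth.Agent.EtaleSite.ExtEquiv

/-!
# Cohomology and equivalences of sites
-/

set_option autoImplicit false
open CategoryTheory CategoryTheory.Limits Opposite
universe v u w

namespace Groth.Agent.AlgSpEN.HColim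

variable {C : Type w} [Category.{v} C] (J : GrothendieckTopology C)
  {D : Type u} [SmallCategory D] (K : GrothendieckTopology D) (e : C ≌ D) [e.inverse.IsDenseSubsite K J]
  [HasSheafify J AddCommGrpCat.{u}] [HasExt.{u} (Sheaf J AddCommGrpCat.{u})]
  [HasExt.{u} (Sheaf K AddCommGrpCat.{u})] [EnoughInjectives (Sheaf J AddCommGrpCat.{u})]

omit [HasExt.{u} (Sheaf J AddCommGrpCat.{u})] [HasExt.{u} (Sheaf K AddCommGrpCat.{u})]
  [EnoughInjectives (Sheaf J AddCommGrpCat.{u})] in
/-- An equivalence of sites respects constant sheaves. -/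
theorem nonempty_constant_iso (A : AddCommGrpCat.{u}) :
    Nonempty ((e.sheafCongr J K AddCommGrpCat.{u}).functor.obj ((constantSheaf J AddCommGrpCat.{u}).obj A) ≅
      (constantSheaf K AddCommGrpCat.{u}).obj A) := by
  let E := e.sheafCongr J K AddCommGrpCat.{u}
  let i := (sheafificationAdjunction J AddCommGrpCat.{u}).leftAdjointUniq
    (e.transportSheafificationAdjunction J K AddCommGrpCat.{u})
  let P : Cᵒᵖ ⥤ AddCommGrpCat.{u} := (Functor.const Cᵒᵖ).obj A
  exact ⟨E.functor.mapIso (i.app P) ≪≫ E.counitIso.app _ ≪≫ (presheafToSheaf K _).mapIso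
    (NatIso.ofComponents (fun _ => Iso.refl _) (fun _ => rfl) :
      e.op.congrLeft.functor.obj P ≅ (Functor.const Dᵒᵖ).obj A)⟩

/-- Ext out of an object is invariant under a fully faithful exact functor preserving injectives. -/
theorem nonempty_extFunctor_iso {A B : Type*} [Category A] [Abelian A] [Category B] [Abelian B]
    [HasExt.{u} A] [HasExt.{u} B] [EnoughInjectives A] (F : A ⥤ B) [F.Additive] [PreservesFiniteLimits F]
    [PreservesFiniteColimits F] (hF : F.FullyFaithful) (hinj : ∀ I : A, Injective I → Injective (F.obj I))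
    {M : A} {N : B} (i : F.obj M ≅ N) (n : ℕ) :
    Nonempty ((Abelian.extFunctor.{u} n).obj (op M) ≅ F ⋙ (Abelian.extFunctor.{u} n).obj (op N)) := by
  have hi : ∀ G : B, Function.Bijective ((Abelian.Ext.mk₀ i.inv).precomp G (zero_add n)) := by
    intro G
    refine Function.bijective_iff_has_inverse.2 ⟨(Abelian.Ext.mk₀ i.hom).precomp G (zero_add n), fun x => ?_, fun x => ?_⟩
    · simp [Abelian.Ext.mk₀_comp_mk₀_assoc]
    · simp [Abelian.Ext.mk₀_comp_mk₀_assoc]
  refine ⟨NatIso.ofComponents (fun X => AddEquiv.toAddCommGrpIso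
    ((AddEquiv.ofBijective _ (Groth.Agent.EtaleSite.bijective_mapExt F hF hinj M n X)).trans
      (AddEquiv.ofBijective _ (hi (F.obj X))))) ?_⟩
  intro X Y φ
  refine ConcreteCategory.hom_ext _ _ fun (x : Abelian.Ext.{u} M X n) => ?_
  change (Abelian.Ext.mk₀ i.inv).comp ((x.comp (Abelian.Ext.mk₀ φ) (add_zero n)).mapExactFunctor F)
    (zero_add n) = ((Abelian.Ext.mk₀ i.inv).comp (x.mapExactFunctor F) (zero_add n)).comp
      (Abelian.Ext.mk₀ (F.map φ)) (add_zero n)
  rw [Abelian.Ext.mapExactFunctor_comp, Abelian.Ext.mapExactFunctor_mk₀]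
  exact (Abelian.Ext.comp_assoc_of_third_deg_zero _ _ _ _).symm

/-- An equivalence of sites respects cohomology functors. -/
theorem nonempty_functorH_iso (n : ℕ) :
    Nonempty ((Sheaf.functorH J n : Sheaf J AddCommGrpCat.{u} ⥤ AddCommGrpCat.{u}) ≅
      (e.sheafCongr J K AddCommGrpCat.{u}).functor ⋙ Sheaf.functorH K n) := by
  obtain ⟨i⟩ := nonempty_constant_iso J K e (AddCommGrpCat.of (ULift.{u} ℤ))
  have : (e.sheafCongr J K AddCommGrpCat.{u}).functor.Additive := Functor.additive_of_preserves_binary_products _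
  obtain ⟨r⟩ := nonempty_extFunctor_iso (e.sheafCongr J K AddCommGrpCat.{u}).functor
    (e.sheafCongr J K AddCommGrpCat.{u}).fullyFaithfulFunctor
    (fun I hI => by
      have := hI
      exact Injective.injective_of_adjoint (e.sheafCongr J K AddCommGrpCat.{u}).symm.toAdjunction I) i n
  exact ⟨NatIso.ofComponents (fun F => r.app F) (fun f => r.hom.naturality f)⟩

include e in
/-- Preservation of colimits transfers. -/
theorem preservesColimitsOfShape_functorH_of_equiv {Λ : Type*} [Category Λ] (n : ℕ)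
    (h : PreservesColimitsOfShape Λ (Sheaf.functorH K n : Sheaf K AddCommGrpCat.{u} ⥤ AddCommGrpCat.{u})) :
    PreservesColimitsOfShape Λ (Sheaf.functorH J n : Sheaf J AddCommGrpCat.{u} ⥤ AddCommGrpCat.{u}) := by
  obtain ⟨i⟩ := nonempty_functorH_iso J K e n
  exact preservesColimitsOfShape_of_natIso i.symm

end Groth.Agent.AlgSpEN.HColim
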